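import Groth.Agent.SitesTopoi.Deligne.Succ
import Mathlib.CategoryTheory.Sites.Point.Conservative
import Mathlib.CategoryTheory.Functor.OfSequence
import Mathlib.CategoryTheory.Limits.FunctorCategory.Basic
import Mathlib.CategoryTheory.Limits.Types.Filtered
import Mathlib.CategoryTheory.Sites.Types
import Mathlib.CategoryTheory.Sites.Sheafification

/-!
Deligne's theorem: a site with finite limits and finite covering families has enough points.
-/

universe u

open CategoryTheory CategoryTheory.Limits Opposite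

namespace Groth.SitesTopoi.Deligne

variable {C : Type u} [SmallCategory C] [HasFiniteLimits C] {J : GrothendieckTopology C} {X : C} {S : Sieve X}

omit [HasFiniteLimits C] in
lemma coyoneda_obj_elements_isCofiltered (X : C) : IsCofiltered (coyoneda.obj (op X)).Elements :=
  { nonempty := ⟨Functor.elementsMk _ X (𝟙 X)⟩
    cone_objs := fun a b => ⟨Functor.elementsMk _ X (𝟙 X),
      CategoryOfElements.homMk _ _ a.2 (Category.id_comp _), CategoryOfElements.homMk _ _ b.2 (Category.id_comp _), trivial⟩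
    cone_maps := fun a b f g => ⟨Functor.elementsMk _ X (𝟙 X),
      CategoryOfElements.homMk _ _ a.2 (Category.id_comp _), Subtype.ext (f.2.trans g.2.symm)⟩ }

/-- The first stage: the representable functor with the identity. -/
noncomputable def initStage (hS : S ∉ J X) : Stage J S where
  F := coyoneda.obj (op X)
  cofiltered := coyoneda_obj_elements_isCofiltered X
  x := 𝟙 X
  avoid Z z f hf := by
    intro h
    have := J.pullback_stable z h
    rw [← Sieve.pullback_comp, show z ≫ f = 𝟙 X from hf, Sieve.pullback_id] at this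
    exact hS this

variable (hJ : ∀ (U : C) (R : Sieve U), R ∈ J U →
  ∃ (n : ℕ) (V : Fin n → C) (g : ∀ k, V k ⟶ U), (∀ k, R (g k)) ∧ Sieve.ofArrows V g ∈ J U)

include hJ in
lemma exists_point_avoiding (hS : S ∉ J X) :
    ∃ (Φ : GrothendieckTopology.Point.{u} J) (x : Φ.fiber.obj X),
      ∀ (Y : C) (g : Y ⟶ X), S g → ∀ y : Φ.fiber.obj Y, Φ.fiber.map g y ≠ x := by
  choose τ η hx hη using exists_next (X := X) (S := S) hJ
  let σ : ℕ → Stage J S := fun n => n.rec (initStage hS) fun _ s => τ s
  let D : ℕ ⥤ C ⥤ Type u := Functor.ofSequence (X := fun n => (σ n).F) fun n => η (σ n)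
  let G : C ⥤ Type u := colimit D
  let ι : ∀ n, (σ n).F ⟶ G := fun n => colimit.ι D n
  let hc : ∀ Y, IsColimit (((evaluation C (Type u)).obj Y).mapCocone (colimit.cocone D)) := fun Y =>
    isColimitOfPreserves ((evaluation C (Type u)).obj Y) (colimit.isColimit D)
  have surj : ∀ {Y : C} (y : G.obj Y), ∃ (n : ℕ) (y₀ : (σ n).F.obj Y), (ι n).app Y y₀ = y := fun {Y} y =>
    Types.jointly_surjective_of_isColimit (hc Y) y
  have hmap : ∀ (n : ℕ) {Y Y' : C} (m : Y ⟶ Y') (y : (σ n).F.obj Y),
      (ι n).app Y' ((σ n).F.map m y) = G.map m ((ι n).app Y y) := fun n _ _ m y =>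
    NatTrans.naturality_apply (ι n) m y
  have hle : ∀ {n m : ℕ} (h : n ≤ m) {Y : C} (y : (σ n).F.obj Y),
      (ι m).app Y ((D.map (homOfLE h)).app Y y) = (ι n).app Y y := fun {n m} h {Y} y =>
    congrArg (fun φ => φ.app Y y) (colimit.w D (homOfLE h))
  have heq : ∀ {n : ℕ} {Y : C} (y y' : (σ n).F.obj Y), (ι n).app Y y = (ι n).app Y y' →
      ∃ (m : ℕ) (h : n ≤ m), (D.map (homOfLE h)).app Y y = (D.map (homOfLE h)).app Y y' := fun {n Y} y y' e => by
    obtain ⟨m, p, hp⟩ := (Types.FilteredColimit.isColimit_eq_iff' (hc Y) y y').1 e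
    exact ⟨m, leOfHom p, hp⟩
  have hdx : ∀ n, (D.map (homOfLE n.le_succ)).app X (σ n).x = (σ (n + 1)).x := fun n => by
    rw [show D.map (homOfLE n.le_succ) = η (σ n) from Functor.ofSequence_map_homOfLE_succ _ n]
    exact hx (σ n)
  let x : G.obj X := (ι 0).app X (σ 0).x
  have hιx : ∀ n, (ι n).app X (σ n).x = x := by
    intro n
    induction n with
    | zero => rfl
    | succ n ih => rw [← hdx n, hle, ih]
  have : IsCofiltered G.Elements :=
    { nonempty := ⟨Functor.elementsMk G X x⟩
      cone_objs := fun a b => by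
        obtain ⟨n, a₀, ha⟩ := surj a.2
        obtain ⟨m, b₀, hb⟩ := surj b.2
        obtain ⟨c, p, q, -⟩ := IsCofilteredOrEmpty.cone_objs (Functor.elementsMk (σ (max n m)).F a.1
          ((D.map (homOfLE (le_max_left n m))).app a.1 a₀)) (Functor.elementsMk (σ (max n m)).F b.1
          ((D.map (homOfLE (le_max_right n m))).app b.1 b₀))
        refine ⟨Functor.elementsMk G c.1 ((ι (max n m)).app c.1 c.2),
          CategoryOfElements.homMk _ _ p.1 ?_, CategoryOfElements.homMk _ _ q.1 ?_, trivial⟩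
        · exact (hmap _ _ _).symm.trans ((congrArg ((ι (max n m)).app a.1) p.2).trans ((hle _ _).trans ha))
        · exact (hmap _ _ _).symm.trans ((congrArg ((ι (max n m)).app b.1) q.2).trans ((hle _ _).trans hb))
      cone_maps := fun a b f g => by
        obtain ⟨n, a₀, ha⟩ := surj a.2
        have e : (ι n).app b.1 ((σ n).F.map f.1 a₀) = (ι n).app b.1 ((σ n).F.map g.1 a₀) := by
          rw [hmap, hmap, ha, f.2, g.2]
        obtain ⟨m, h, hm⟩ := heq _ _ e
        let a₁ : (σ m).F.obj a.1 := (D.map (homOfLE h)).app a.1 a₀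
        have hm' : (σ m).F.map f.1 a₁ = (σ m).F.map g.1 a₁ :=
          (NatTrans.naturality_apply (D.map (homOfLE h)) f.1 a₀).symm.trans
            (hm.trans (NatTrans.naturality_apply (D.map (homOfLE h)) g.1 a₀))
        obtain ⟨Z, z, w, hz, hw⟩ := exists_equalizing (F := (σ m).F) a₁ (κ := PUnit.{1})
          (fun _ => f.1) (fun _ => g.1) (fun _ => hm')
        exact ⟨Functor.elementsMk G Z ((ι m).app Z z), CategoryOfElements.homMk _ _ w
          (by
            refine (hmap m w z).symm.trans ?_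
            rw [hz, hle, ha]), Subtype.ext (hw .unit)⟩ }
  have : InitiallySmall.{u} G.Elements := initiallySmall_of_essentiallySmall _
  refine ⟨{ fiber := G, jointly_surjective := fun {Y} R hR y => ?_ }, x, fun Y g hg y hy => ?_⟩
  · obtain ⟨n, y₀, rfl⟩ := surj y
    obtain ⟨Z, v, hv, z, hz⟩ := hη (σ n) Y y₀ R hR
    refine ⟨Z, v, hv, (ι (n + 1)).app Z z, ?_⟩
    rw [← hmap (n + 1)]
    have e : η (σ n) = D.map (homOfLE n.le_succ) :=
      (Functor.ofSequence_map_homOfLE_succ (X := fun n => (σ n).F) (fun n => η (σ n)) n).symm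
    refine (congrArg ((ι (n + 1)).app Y) hz).trans ?_
    exact (congrArg (fun φ : (σ n).F ⟶ (σ (n + 1)).F => (ι (n + 1)).app Y (φ.app Y y₀)) e).trans
      (hle n.le_succ y₀)
  · obtain ⟨n, y₀, rfl⟩ := surj y
    change G.map g _ = x at hy
    rw [← hmap, ← hιx n] at hy
    obtain ⟨m, h, hm⟩ := heq _ _ hy
    have hxm : (D.map (homOfLE h)).app X (σ n).x = (σ m).x := by
      clear hm
      induction h with
      | refl =>
        rw [show homOfLE (Nat.le.refl : n ≤ n) = 𝟙 n from rfl, D.map_id]
        rfl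
      | @step m h' ih =>
        rw [show homOfLE (Nat.le.step h') = homOfLE h' ≫ homOfLE m.le_succ from rfl, D.map_comp,
          ← hdx m, ← ih]
        rfl
    refine (σ m).avoid Y ((D.map (homOfLE h)).app Y y₀) g ?_ ?_
    · exact (NatTrans.naturality_apply (D.map (homOfLE h)) g y₀).symm.trans (hm.trans hxm)
    · rw [Sieve.pullback_eq_top_of_mem S hg]
      exact J.top_mem Y

include hJ in
theorem hasEnoughPoints : GrothendieckTopology.HasEnoughPoints.{u} J := by
  classical
  choose Φ x hΦ using fun p : (Σ X : C, {S : Sieve X // S ∉ J X}) => exists_point_avoiding hJ p.2.2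
  refine ⟨ObjectProperty.ofObj Φ, inferInstance, .mk' (fun X S hS => ?_)⟩
  by_contra hSJ
  obtain ⟨Y, g, hg, y, hy⟩ := hS ⟨Φ ⟨X, S, hSJ⟩, ObjectProperty.ofObj_apply Φ ⟨X, S, hSJ⟩⟩ (x ⟨X, S, hSJ⟩)
  exact hΦ ⟨X, S, hSJ⟩ Y g hg y hy

end Groth.SitesTopoi.Deligne
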