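import Mathlib.CategoryTheory.Sites.Point.OfIsCofiltered
import Mathlib.CategoryTheory.Limits.Shapes.FiniteProducts
import Mathlib.CategoryTheory.Limits.Shapes.Pullback.HasPullback
import Mathlib.Topology.Compactness.Compact
import Mathlib.Topology.Constructions
import Mathlib.Topology.Compactness.Bases
import Mathlib.Data.Finite.Sigma
import Mathlib.Data.Finite.Sum
import Mathlib.Data.Finite.Prod
import Mathlib.Data.Fintype.Pi

/-!
One step of the construction of enough points for a site with finite covering families: a flat functor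
avoiding a sieve is enlarged so that every covering of every element is split.
-/

universe u

open CategoryTheory CategoryTheory.Limits Opposite

namespace Groth.SitesTopoi.Deligne

variable {C : Type u} [SmallCategory C]

section Elements

variable {F : C ⥤ Type u} [IsCofiltered F.Elements]

lemma exists_family {κ : Type*} [Finite κ] {Y : κ → C} (y : ∀ k, F.obj (Y k)) :
    ∃ (Z : C) (z : F.obj Z) (g : ∀ k, Z ⟶ Y k), ∀ k, F.map (g k) z = y k := by
  classical
  have : Fintype κ := Fintype.ofFinite κ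
  obtain ⟨W, hW⟩ := IsCofiltered.inf_objs_exists
    (Finset.univ.image fun k => (F.elementsMk (Y k) (y k) : F.Elements))
  have h := fun k => hW (Finset.mem_image_of_mem _ (Finset.mem_univ k))
  exact ⟨W.1, W.2, fun k => (h k).some.1, fun k => (h k).some.2⟩

lemma exists_refine {κ : Type*} [Finite κ] {Z : C} (z : F.obj Z) {Y : κ → C} (y : ∀ k, F.obj (Y k)) :
    ∃ (Z' : C) (z' : F.obj Z') (h : Z' ⟶ Z) (g : ∀ k, Z' ⟶ Y k),
      F.map h z' = z ∧ ∀ k, F.map (g k) z' = y k := by
  obtain ⟨Z', z', g, hg⟩ := exists_family (F := F) (Y := fun o : Option κ => o.elim Z Y)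
    (fun o => match o with
      | none => z
      | some k => y k)
  exact ⟨Z', z', g none, fun k => g (some k), hg none, fun k => hg (some k)⟩

lemma exists_equalizing {κ : Type*} [Finite κ] {Z : C} (z : F.obj Z) {Y : κ → C} (a b : ∀ k, Z ⟶ Y k)
    (h : ∀ k, F.map (a k) z = F.map (b k) z) :
    ∃ (Z' : C) (z' : F.obj Z') (e : Z' ⟶ Z), F.map e z' = z ∧ ∀ k, e ≫ a k = e ≫ b k := by
  classical
  have : Fintype κ := Fintype.ofFinite κ
  suffices ∀ s : Finset κ, ∃ (Z' : C) (z' : F.obj Z') (e : Z' ⟶ Z), F.map e z' = z ∧ ∀ k ∈ s, e ≫ a k = e ≫ b k by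
    obtain ⟨Z', z', e, he, h'⟩ := this Finset.univ
    exact ⟨Z', z', e, he, fun k => h' k (Finset.mem_univ k)⟩
  intro s
  induction s using Finset.induction with
  | empty => exact ⟨Z, z, 𝟙 Z, Functor.map_id_apply F Z z, by simp⟩
  | insert k s _ ih =>
    obtain ⟨Z', z', e, he, h'⟩ := ih
    let p : F.elementsMk Z' z' ⟶ F.elementsMk (Y k) (F.map (a k) z) :=
      CategoryOfElements.homMk _ _ (e ≫ a k) (by simp [he])
    let q : F.elementsMk Z' z' ⟶ F.elementsMk (Y k) (F.map (a k) z) :=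
      CategoryOfElements.homMk _ _ (e ≫ b k) (by simp [he, h k])
    let w := IsCofiltered.eqHom p q
    refine ⟨_, (IsCofiltered.eq p q).2, w.1 ≫ e, by simp [w.2, he], fun l hl => ?_⟩
    rcases Finset.mem_insert.1 hl with rfl | hl
    · simpa [p, q, w] using congrArg Subtype.val (IsCofiltered.eq_condition p q)
    · rw [Category.assoc, Category.assoc, h' l hl]

end Elements

variable (J : GrothendieckTopology C)

/-- A flat functor with an element avoiding a sieve. -/
structure Stage {X : C} (S : Sieve X) where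
  /-- the functor -/
  F : C ⥤ Type u
  [cofiltered : IsCofiltered F.Elements]
  /-- the element -/
  x : F.obj X
  avoid : ∀ (Z : C) (z : F.obj Z) (f : Z ⟶ X), F.map f z = x → S.pullback f ∉ J Z

attribute [instance] Stage.cofiltered

variable {J} {X : C} {S : Sieve X} (σ : Stage J S)

/-- A covering of an element of the functor. -/
structure Task where
  /-- the object -/
  Y : C
  /-- the element -/
  y : σ.F.obj Y
  /-- the covering sieve -/
  R : Sieve Y
  mem : R ∈ J Y

/-- For each task, finitely many arrows of the sieve which already cover. -/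
structure Choices where
  /-- the number of arrows -/
  n : Task σ → ℕ
  /-- the sources -/
  V : ∀ t, Fin (n t) → C
  /-- the arrows -/
  v : ∀ t k, V t k ⟶ t.Y
  v_mem : ∀ (t : Task σ) k, t.R (v t k)
  covering : ∀ t : Task σ, Sieve.ofArrows (V t) (v t) ∈ J t.Y

variable {σ} (ch : Choices σ) [HasFiniteLimits C]

/-- A finite set of tasks, with a common refinement of their elements. -/
structure Node where
  /-- the tasks -/
  A : Finset (Task σ)
  /-- the object -/
  Z : C
  /-- the element -/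
  z : σ.F.obj Z
  /-- the map to the base -/
  f : Z ⟶ X
  hf : σ.F.map f z = σ.x
  /-- the maps to the tasks -/
  g : ∀ t : A, Z ⟶ t.1.Y
  hg : ∀ t, σ.F.map (g t) z = t.1.y

/-- A choice of one arrow for every task. -/
abbrev Sel : Type u := ∀ t : Task σ, Fin (ch.n t)

/-- The product of the chosen arrows. -/
noncomputable abbrev selMap (k : Sel ch) (A : Finset (Task σ)) :
    (∏ᶜ fun t : A => ch.V t.1 (k t.1)) ⟶ ∏ᶜ fun t : A => t.1.Y :=
  Limits.Pi.map fun t => ch.v t.1 (k t.1)

/-- The object obtained from a node by splitting its tasks according to a choice. -/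
noncomputable abbrev nodeObj (k : Sel ch) (U : Node (σ := σ)) : C :=
  pullback (Pi.lift U.g) (selMap ch k U.A)

/-- A choice is good for a set of tasks when it keeps avoiding the sieve. -/
def Good (k : Sel ch) (A : Finset (Task σ)) : Prop :=
  ∀ U : Node (σ := σ), U.A = A →
    S.pullback (pullback.fst (Pi.lift U.g) (selMap ch k U.A) ≫ U.f) ∉ J _

/-- Morphisms of nodes. -/
@[ext]
structure NodeHom (U V : Node (σ := σ)) where
  /-- the underlying arrow -/
  h : U.Z ⟶ V.Z
  sub : V.A ⊆ U.A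
  hz : σ.F.map h U.z = V.z
  hhf : h ≫ V.f = U.f
  hhg : ∀ t : V.A, h ≫ V.g t = U.g ⟨t.1, sub t.2⟩

/-- The map induced on the split objects. -/
noncomputable def nodeMap (k : Sel ch) {U V : Node (σ := σ)} (φ : NodeHom U V) :
    nodeObj ch k U ⟶ nodeObj ch k V :=
  pullback.lift (pullback.fst _ _ ≫ φ.h)
    (pullback.snd _ _ ≫ Pi.lift fun t => Pi.π (fun t : U.A => ch.V t.1 (k t.1)) ⟨t.1, φ.sub t.2⟩)
    (Limits.Pi.hom_ext _ _ fun t => by
      have e := (pullback.condition (f := Pi.lift U.g) (g := selMap ch k U.A)) =≫ Pi.π _ ⟨t.1, φ.sub t.2⟩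
      simp only [Category.assoc, Pi.lift_π, Pi.map_π, Pi.lift_π_assoc, φ.hhg] at e ⊢
      exact e)

@[reassoc]
lemma nodeMap_fst (k : Sel ch) {U V : Node (σ := σ)} (φ : NodeHom U V) :
    nodeMap ch k φ ≫ pullback.fst _ _ = pullback.fst _ _ ≫ φ.h := pullback.lift_fst _ _ _

lemma Good.mono {k : Sel ch} {A B : Finset (Task σ)} (hAB : A ⊆ B) (h : Good ch k B) : Good ch k A := by
  classical
  rintro U rfl hU
  obtain ⟨Z', z', e, g, he, hg⟩ := exists_refine (F := σ.F) U.z (fun t : B => t.1.y)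
  obtain ⟨Z'', z'', e', he', heq⟩ := exists_equalizing (F := σ.F) z' (fun t : U.A => g ⟨t.1, hAB t.2⟩)
    (fun t => e ≫ U.g t) (fun t => by rw [hg, Functor.map_comp_apply, he, U.hg])
  let V : Node (σ := σ) :=
    { A := B, Z := Z'', z := z'', f := e' ≫ e ≫ U.f,
      hf := by rw [Functor.map_comp_apply, he', Functor.map_comp_apply, he, U.hf]
      g := fun t => e' ≫ g t
      hg := fun t => by rw [Functor.map_comp_apply, he', hg] }
  let φ : NodeHom V U :=
    { h := e' ≫ e, sub := hAB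
      hz := by rw [Functor.map_comp_apply, he', he]
      hhf := Category.assoc _ _ _
      hhg := fun t => (Category.assoc _ _ _).trans (heq t).symm }
  refine h V rfl ?_
  have := J.pullback_stable (nodeMap ch k φ) hU
  rwa [← Sieve.pullback_comp, nodeMap_fst_assoc, φ.hhf] at this

lemma exists_good_restrict (A : Finset (Task σ)) (k₀ : Sel ch) : ∃ k : Sel ch, Good ch k A := by
  classical
  by_contra! hbad
  have hbad' : ∀ c : (∀ t : A, Fin (ch.n t.1)), ∃ U : Node (σ := σ), U.A = A ∧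
      S.pullback (pullback.fst (Pi.lift U.g)
        (selMap ch (fun t => if h : t ∈ A then c ⟨t, h⟩ else k₀ t) U.A) ≫ U.f) ∈ J _ := by
    intro c
    simpa [Good] using hbad fun t => if h : t ∈ A then c ⟨t, h⟩ else k₀ t
  choose U hUA hU using hbad'
  obtain ⟨Z, z, g, hg⟩ := exists_family (F := σ.F)
    (Y := fun o : (∀ t : A, Fin (ch.n t.1)) ⊕ (A ⊕ PUnit.{1}) =>
      Sum.elim (fun c => (U c).Z) (Sum.elim (fun t : A => t.1.Y) fun _ => X) o)
    (fun o => match o with
      | .inl c => (U c).z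
      | .inr (.inl t) => t.1.y
      | .inr (.inr _) => σ.x)
  obtain ⟨gU, hgU⟩ : ∃ gU : ∀ c, Z ⟶ (U c).Z, ∀ c, σ.F.map (gU c) z = (U c).z :=
    ⟨fun c => g (.inl c), fun c => hg _⟩
  obtain ⟨gA, hgA⟩ : ∃ gA : ∀ t : A, Z ⟶ t.1.Y, ∀ t : A, σ.F.map (gA t) z = t.1.y :=
    ⟨fun t => g (.inr (.inl t)), fun t => hg _⟩
  obtain ⟨g₀, hg₀⟩ : ∃ g₀ : Z ⟶ X, σ.F.map g₀ z = σ.x := ⟨g (.inr (.inr PUnit.unit)), hg _⟩
  obtain ⟨Z₁, z₁, e₁, he₁, heq₁⟩ := exists_equalizing (F := σ.F) z
    (κ := Σ c : (∀ t : A, Fin (ch.n t.1)), (U c).A)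
    (fun p => gU p.1 ≫ (U p.1).g p.2)
    (fun p => gA ⟨p.2.1, (congrArg (p.2.1 ∈ ·) (hUA p.1)).mp p.2.2⟩)
    (fun p => by rw [Functor.map_comp_apply, hgU, hgA]; exact (U p.1).hg p.2)
  obtain ⟨Z', z', e₂, he₂, heq₂⟩ := exists_equalizing (F := σ.F) z₁
    (fun c : (∀ t : A, Fin (ch.n t.1)) => e₁ ≫ gU c ≫ (U c).f) (fun _ => e₁ ≫ g₀)
    (fun c => by rw [Functor.map_comp_apply, he₁, Functor.map_comp_apply, hgU, (U c).hf,
      Functor.map_comp_apply, he₁, hg₀])
  obtain ⟨e, he⟩ : ∃ e : Z' ⟶ Z, e = e₂ ≫ e₁ := ⟨_, rfl⟩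
  let f : Z' ⟶ X := e ≫ g₀
  refine σ.avoid Z' z' f (by simp only [f, he, Functor.map_comp_apply, he₁, he₂, hg₀]) ?_
  have hcov : A.attach.inf (fun t => (Sieve.ofArrows _ (ch.v t.1)).pullback (e ≫ gA t)) ∈ J Z' :=
    Finset.inf_induction (J.top_mem Z') (fun _ h₁ _ h₂ => J.intersection_covering h₁ h₂)
      fun t _ => J.pullback_stable _ (ch.covering t.1)
  refine J.transitive hcov _ fun W h hh => ?_
  have hh' : ∀ t : A, Sieve.ofArrows _ (ch.v t.1) (h ≫ e ≫ gA t) := fun t =>
    (Finset.inf_le (f := fun t : A => (Sieve.ofArrows _ (ch.v t.1)).pullback (e ≫ gA t))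
      (Finset.mem_attach A t)) h hh
  choose c a ha using fun t : A => (Sieve.mem_ofArrows_iff _ _ _).1 (hh' t)
  let k : Sel ch := fun t => if h : t ∈ A then c ⟨t, h⟩ else k₀ t
  have hk : ∀ t (ht : t ∈ A), k t = c ⟨t, ht⟩ := fun t ht => dif_pos ht
  let a' : ∀ t : (U c).A, W ⟶ ch.V t.1 (k t.1) := fun t =>
    a ⟨t.1, (congrArg (t.1 ∈ ·) (hUA c)).mp t.2⟩ ≫ eqToHom (by rw [hk])
  have ha' : ∀ t : (U c).A, a' t ≫ ch.v t.1 (k t.1) = h ≫ e ≫ gA ⟨t.1, (congrArg (t.1 ∈ ·) (hUA c)).mp t.2⟩ := fun t => by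
    have : ∀ {m : Fin (ch.n t.1)} (hm : c ⟨t.1, (congrArg (t.1 ∈ ·) (hUA c)).mp t.2⟩ = m),
        a ⟨t.1, (congrArg (t.1 ∈ ·) (hUA c)).mp t.2⟩ ≫ eqToHom (by rw [hm]) ≫ ch.v t.1 m =
          h ≫ e ≫ gA ⟨t.1, (congrArg (t.1 ∈ ·) (hUA c)).mp t.2⟩ := by
      rintro _ rfl
      rw [eqToHom_refl, Category.id_comp]
      exact (ha ⟨t.1, (congrArg (t.1 ∈ ·) (hUA c)).mp t.2⟩).symm
    exact (Category.assoc _ _ _).trans (this (hk _ _).symm)
  let l : W ⟶ pullback (Pi.lift (U c).g) (selMap ch k (U c).A) :=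
    pullback.lift (h ≫ e ≫ gU c) (Pi.lift a') (Limits.Pi.hom_ext _ _ fun t => by
      simp only [Category.assoc, Pi.lift_π, Pi.map_π, Pi.lift_π_assoc]
      rw [ha']
      exact congrArg (fun q => h ≫ q) (by simpa only [he, Category.assoc] using congrArg (e₂ ≫ ·) (heq₁ ⟨c, t⟩)))
  have hJ := J.pullback_stable l (hU c)
  rw [← Sieve.pullback_comp, pullback.lift_fst_assoc, Category.assoc, Category.assoc] at hJ
  have e2 : h ≫ e ≫ gU c ≫ (U c).f = h ≫ f :=
    congrArg (h ≫ ·) (by simpa only [f, he, Category.assoc] using heq₂ c)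
  rwa [e2, Sieve.pullback_comp] at hJ

omit [HasFiniteLimits C] in
lemma exists_sel : Nonempty (Sel ch) := by
  refine ⟨fun t => Classical.choice ?_⟩
  by_contra h
  have : IsEmpty (Fin (ch.n t)) := not_nonempty_iff.1 h
  obtain ⟨Z, z, e, g, -, hg⟩ := exists_refine (F := σ.F) σ.x (fun _ : PUnit.{1} => t.y)
  obtain ⟨Z', z', e', g', he', hg'⟩ := exists_refine (F := σ.F) z (fun _ : PUnit.{1} => σ.x)
  refine σ.avoid Z' z' (g' PUnit.unit) (hg' _) (J.transitive
    (J.pullback_stable (e' ≫ g PUnit.unit) (ch.covering t)) _ fun W h hh => ?_)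
  obtain ⟨i, -⟩ := (Sieve.mem_ofArrows_iff _ _ _).1 hh
  exact this.elim i

lemma exists_good : ∃ k : Sel ch, ∀ A, Good ch k A := by
  classical
  obtain ⟨k₀⟩ := exists_sel ch
  let K : Finset (Task σ) → Set (Sel ch) := fun A => {k | Good ch k A}
  have hclosed : ∀ A, IsClosed (K A) := by
    intro A
    let r : Sel ch → (∀ t : A, Fin (ch.n t.1)) := fun k t => k t.1
    have hr : Continuous r := continuous_pi fun t => continuous_apply t.1
    have : K A = r ⁻¹' (r '' K A) := by
      refine Set.Subset.antisymm (Set.subset_preimage_image r _) ?_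
      rintro k ⟨k', hk', e⟩ U rfl
      have hV : ∀ t : U.A, k' t.1 = k t.1 := fun t => congrFun e t
      intro hmem
      refine hk' U rfl ?_
      let m : pullback (Pi.lift U.g) (selMap ch k' U.A) ⟶ pullback (Pi.lift U.g) (selMap ch k U.A) :=
        pullback.map _ _ _ _ (𝟙 _) (Limits.Pi.map fun t => eqToHom (by rw [hV t])) (𝟙 _) (by simp)
          (Limits.Pi.hom_ext _ _ fun t => by
            have : ∀ {i j : Fin (ch.n t.1)} (hij : i = j),
                eqToHom (congrArg (ch.V t.1) hij) ≫ ch.v t.1 j = ch.v t.1 i := by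
              rintro _ _ rfl; simp
            simp only [Category.assoc, Category.comp_id, Pi.map_π, Pi.map_π_assoc]
            rw [this (hV t)])
      have := J.pullback_stable m hmem
      rwa [← Sieve.pullback_comp, pullback.lift_fst_assoc, Category.assoc, Category.id_comp] at this
    rw [this]
    exact (isClosed_discrete _).preimage hr
  obtain ⟨k, hk⟩ := IsCompact.nonempty_iInter_of_directed_nonempty_isCompact_isClosed K
    (fun A B => ⟨A ∪ B, fun k hk => Good.mono ch Finset.subset_union_left hk,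
      fun k hk => Good.mono ch Finset.subset_union_right hk⟩)
    (fun A => exists_good_restrict ch A k₀) (fun A => (hclosed A).isCompact) hclosed
  exact ⟨k, fun A => Set.mem_iInter.1 hk A⟩

end Groth.SitesTopoi.Deligne
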