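import Groth.Agent.SitesTopoi.Deligne.Step

/-!
The enlargement of a stage in which every covering of every element is split.
-/

universe u

open CategoryTheory CategoryTheory.Limits Opposite

namespace Groth.SitesTopoi.Deligne

open GrothendieckTopology.Point.ofIsCofiltered

variable {C : Type u} [SmallCategory C] {J : GrothendieckTopology C} {X : C} {S : Sieve X}
  {σ : Stage J S} (ch : Choices σ) [HasFiniteLimits C]

instance : Category.{u} (Node (σ := σ)) where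
  Hom := NodeHom
  id U :=
    { h := 𝟙 U.Z, sub := subset_rfl, hz := Functor.map_id_apply σ.F U.Z U.z, hhf := Category.id_comp _
      hhg := fun _ => Category.id_comp _ }
  comp {U V W} φ ψ :=
    { h := φ.h ≫ ψ.h, sub := ψ.sub.trans φ.sub
      hz := by rw [Functor.map_comp_apply, φ.hz, ψ.hz]
      hhf := by rw [Category.assoc, ψ.hhf, φ.hhf]
      hhg := fun t => by rw [Category.assoc, ψ.hhg, φ.hhg] }
  id_comp _ := NodeHom.ext (Category.id_comp _)
  comp_id _ := NodeHom.ext (Category.comp_id _)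
  assoc _ _ _ := NodeHom.ext (Category.assoc _ _ _)

@[ext]
lemma node_hom_ext {U V : Node (σ := σ)} {φ ψ : U ⟶ V} (h : φ.h = ψ.h) : φ = ψ := NodeHom.ext h

omit [HasFiniteLimits C] in
lemma exists_node (A : Finset (Task σ)) {Y : C} (y : σ.F.obj Y) :
    ∃ (U : Node (σ := σ)) (g : U.Z ⟶ Y), U.A = A ∧ σ.F.map g U.z = y := by
  obtain ⟨Z, z, g, hg⟩ := exists_family (F := σ.F)
    (Y := fun o : (A : Type u) ⊕ (PUnit.{1} ⊕ PUnit.{1}) =>
      Sum.elim (fun t : A => t.1.Y) (Sum.elim (fun _ => X) fun _ => Y) o)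
    (fun o => match o with
      | .inl t => t.1.y
      | .inr (.inl _) => σ.x
      | .inr (.inr _) => y)
  exact ⟨⟨A, Z, z, g (.inr (.inl .unit)), hg _, fun t => g (.inl t), fun t => hg _⟩, g (.inr (.inr .unit)),
    rfl, hg _⟩

omit [HasFiniteLimits C] in
lemma exists_node_equalizing (U : Node (σ := σ)) {κ : Type*} [Finite κ] {Y : κ → C} (a b : ∀ k, U.Z ⟶ Y k)
    (h : ∀ k, σ.F.map (a k) U.z = σ.F.map (b k) U.z) :
    ∃ (V : Node (σ := σ)) (φ : V ⟶ U), ∀ k, φ.h ≫ a k = φ.h ≫ b k := by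
  obtain ⟨Z', z', e, he, heq⟩ := exists_equalizing (F := σ.F) U.z a b h
  exact ⟨⟨U.A, Z', z', e ≫ U.f, by rw [Functor.map_comp_apply, he, U.hf], fun t => e ≫ U.g t,
      fun t => by rw [Functor.map_comp_apply, he, U.hg]⟩,
    ⟨e, subset_rfl, he, rfl, fun _ => rfl⟩, heq⟩

omit [HasFiniteLimits C] in
lemma exists_node_refine (U V : Node (σ := σ)) :
    ∃ (W : Node (σ := σ)), Nonempty (W ⟶ U) ∧ Nonempty (W ⟶ V) := by
  classical
  obtain ⟨Z, z, g, hg⟩ := exists_family (F := σ.F)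
    (Y := fun o : ((U.A ∪ V.A : Finset (Task σ)) : Type u) ⊕ (PUnit.{1} ⊕ PUnit.{1}) =>
      Sum.elim (fun t : (U.A ∪ V.A : Finset (Task σ)) => t.1.Y) (Sum.elim (fun _ => U.Z) fun _ => V.Z) o)
    (fun o => match o with
      | .inl t => t.1.y
      | .inr (.inl _) => U.z
      | .inr (.inr _) => V.z)
  obtain ⟨gA, hgA⟩ : ∃ gA : ∀ t : (U.A ∪ V.A : Finset (Task σ)), Z ⟶ t.1.Y,
      ∀ t : (U.A ∪ V.A : Finset (Task σ)), σ.F.map (gA t) z = t.1.y := ⟨fun t => g (.inl t), fun t => hg _⟩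
  obtain ⟨gU, hgU⟩ : ∃ gU : Z ⟶ U.Z, σ.F.map gU z = U.z := ⟨g (.inr (.inl .unit)), hg _⟩
  obtain ⟨gV, hgV⟩ : ∃ gV : Z ⟶ V.Z, σ.F.map gV z = V.z := ⟨g (.inr (.inr .unit)), hg _⟩
  obtain ⟨Z₁, z₁, e₁, he₁, heqU⟩ := exists_equalizing (F := σ.F) z (fun t : U.A => gU ≫ U.g t)
    (fun t => gA ⟨t.1, Finset.mem_union_left _ t.2⟩)
    (fun t => by rw [Functor.map_comp_apply, hgU, U.hg, hgA])
  obtain ⟨Z₂, z₂, e₂, he₂, heqV⟩ := exists_equalizing (F := σ.F) z₁ (fun t : V.A => e₁ ≫ gV ≫ V.g t)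
    (fun t => e₁ ≫ gA ⟨t.1, Finset.mem_union_right _ t.2⟩)
    (fun t => by rw [Functor.map_comp_apply, Functor.map_comp_apply, Functor.map_comp_apply, he₁, hgV, V.hg, hgA])
  obtain ⟨Z₃, z₃, e₃, he₃, heqf⟩ := exists_equalizing (F := σ.F) z₂ (κ := PUnit.{1})
    (fun _ => e₂ ≫ e₁ ≫ gU ≫ U.f) (fun _ => e₂ ≫ e₁ ≫ gV ≫ V.f)
    (fun _ => by simp only [Functor.map_comp_apply, he₂, he₁, hgU, hgV, U.hf, V.hf])
  let W : Node (σ := σ) :=
    { A := U.A ∪ V.A, Z := Z₃, z := z₃, f := e₃ ≫ e₂ ≫ e₁ ≫ gU ≫ U.f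
      hf := by simp only [Functor.map_comp_apply, he₃, he₂, he₁, hgU, U.hf]
      g := fun t => e₃ ≫ e₂ ≫ e₁ ≫ gA t
      hg := fun t => by simp only [Functor.map_comp_apply, he₃, he₂, he₁, hgA] }
  refine ⟨W, ⟨⟨e₃ ≫ e₂ ≫ e₁ ≫ gU, Finset.subset_union_left, ?_, ?_, fun t => ?_⟩⟩,
    ⟨⟨e₃ ≫ e₂ ≫ e₁ ≫ gV, Finset.subset_union_right, ?_, ?_, fun t => ?_⟩⟩⟩
  · simp only [W, Functor.map_comp_apply, he₃, he₂, he₁, hgU]
  · simp only [W, Category.assoc]
  · simp only [W, Category.assoc, heqU t]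
  · simp only [W, Functor.map_comp_apply, he₃, he₂, he₁, hgV]
  · simp only [W, Category.assoc]
    exact (heqf .unit).symm
  · simp only [W, Category.assoc, heqV t]

instance : IsCofiltered (Node (σ := σ)) where
  cone_objs U V := by
    obtain ⟨W, ⟨a⟩, ⟨b⟩⟩ := exists_node_refine U V
    exact ⟨W, a, b, trivial⟩
  cone_maps U V φ ψ := by
    obtain ⟨W, w, hw⟩ := exists_node_equalizing U (κ := PUnit.{1}) (fun _ => φ.h) (fun _ => ψ.h)
      (fun _ => by rw [φ.hz, ψ.hz])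
    exact ⟨W, w, node_hom_ext (hw .unit)⟩
  nonempty := ⟨(exists_node ∅ σ.x).choose⟩

instance : InitiallySmall.{u} (Node (σ := σ)) := initiallySmall_of_essentiallySmall _

/-- The cofiltered diagram of the next stage. -/
noncomputable def nodeFunctor (k : Sel ch) : Node (σ := σ) ⥤ C where
  obj U := nodeObj ch k U
  map φ := nodeMap ch k φ
  map_id U := by
    refine pullback.hom_ext ?_ ?_
    · rw [nodeMap_fst, Category.id_comp]
      exact Category.comp_id _
    · rw [nodeMap, pullback.lift_snd, Category.id_comp]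
      refine (congrArg (pullback.snd _ _ ≫ ·) (Limits.Pi.hom_ext _ (𝟙 _) fun t => ?_)).trans (Category.comp_id _)
      rw [Pi.lift_π, Category.id_comp]
  map_comp {U V W} φ ψ := by
    refine pullback.hom_ext ?_ ?_
    · rw [nodeMap_fst, Category.assoc, nodeMap_fst, nodeMap_fst_assoc]
      rfl
    · simp only [nodeMap, Category.assoc, pullback.lift_snd, pullback.lift_snd_assoc]
      refine congrArg (pullback.snd _ _ ≫ ·) (Limits.Pi.hom_ext _ _ fun t => ?_)
      simp only [Category.assoc, Pi.lift_π]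

/-- The functor of the next stage. -/
noncomputable abbrev succF (k : Sel ch) : C ⥤ Type u := fiber.{u} (nodeFunctor ch k)

/-- The element of the next stage given by a node and a map. -/
noncomputable abbrev nodeEl (k : Sel ch) (U : Node (σ := σ)) {Y : C} (g : U.Z ⟶ Y) : (succF ch k).obj Y :=
  fiberMk (p := nodeFunctor ch k) (U := U) (pullback.fst (Pi.lift U.g) (selMap ch k U.A) ≫ g)

lemma nodeEl_map (k : Sel ch) {U V : Node (σ := σ)} (φ : V ⟶ U) {Y : C} (g : U.Z ⟶ Y) :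
    nodeEl ch k V (φ.h ≫ g) = nodeEl ch k U g := by
  rw [nodeEl, nodeEl, ← fiberMk_map_comp (nodeFunctor ch k) φ]
  congr 1
  exact ((nodeMap_fst_assoc ch k φ g).trans (by rfl)).symm

lemma nodeEl_eq (k : Sel ch) {U V : Node (σ := σ)} {Y : C} {g : U.Z ⟶ Y} {h : V.Z ⟶ Y}
    (e : σ.F.map g U.z = σ.F.map h V.z) : nodeEl ch k U g = nodeEl ch k V h := by
  obtain ⟨W, ⟨a⟩, ⟨b⟩⟩ := exists_node_refine U V
  obtain ⟨W', w, hw⟩ := exists_node_equalizing W (κ := PUnit.{1}) (fun _ => a.h ≫ g) (fun _ => b.h ≫ h)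
    (fun _ => by rw [Functor.map_comp_apply, Functor.map_comp_apply, a.hz, b.hz, e])
  rw [← nodeEl_map ch k a g, ← nodeEl_map ch k b h, ← nodeEl_map ch k w, ← nodeEl_map ch k w, hw .unit]

lemma nodeEl_comp (k : Sel ch) (U : Node (σ := σ)) {Y Y' : C} (g : U.Z ⟶ Y) (m : Y ⟶ Y') :
    (succF ch k).map m (nodeEl ch k U g) = nodeEl ch k U (g ≫ m) :=
  (fiber_map_fiberMk _ _ _).trans (congrArg fiberMk (Category.assoc _ _ _))

/-- The image of an element in the next stage. -/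
noncomputable def transEl (k : Sel ch) {Y : C} (y : σ.F.obj Y) : (succF ch k).obj Y :=
  nodeEl ch k (exists_node ∅ y).choose (exists_node ∅ y).choose_spec.choose

lemma transEl_eq (k : Sel ch) {Y : C} (y : σ.F.obj Y) {U : Node (σ := σ)} {g : U.Z ⟶ Y}
    (hg : σ.F.map g U.z = y) : transEl ch k y = nodeEl ch k U g :=
  nodeEl_eq ch k ((exists_node ∅ y).choose_spec.choose_spec.2.trans hg.symm)

/-- The map to the next stage. -/
noncomputable def trans (k : Sel ch) : σ.F ⟶ succF ch k where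
  app Y := TypeCat.ofHom (transEl ch k)
  naturality Y Y' m := by
    ext y
    obtain ⟨U, g, -, hg⟩ := exists_node ∅ y
    change transEl ch k (σ.F.map m y) = (succF ch k).map m (transEl ch k y)
    rw [transEl_eq ch k y hg, transEl_eq ch k (σ.F.map m y) (U := U) (g := g ≫ m)
      (by rw [Functor.map_comp_apply, hg]), nodeEl_comp]

/-- The next stage. -/
noncomputable def succStage (k : Sel ch) (hk : ∀ A, Good ch k A) : Stage J S where
  F := succF ch k
  x := transEl ch k σ.x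
  avoid W w m hm := by
    obtain ⟨U, a, rfl⟩ := fiberMk_jointly_surjective w
    rw [transEl_eq ch k σ.x U.hf] at hm
    obtain ⟨V, φ, hφ⟩ := exists_of_fiberMk_eq_fiberMk ((fiber_map_fiberMk _ _ _).symm.trans hm)
    intro hmem
    refine hk V.A V rfl ?_
    have := J.pullback_stable ((nodeFunctor ch k).map φ ≫ a) hmem
    rw [← Sieve.pullback_comp, Category.assoc, hφ] at this
    have e : (nodeFunctor ch k).map φ ≫ pullback.fst (Pi.lift U.g) (selMap ch k U.A) ≫ U.f =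
        pullback.fst (Pi.lift V.g) (selMap ch k V.A) ≫ V.f :=
      (nodeMap_fst_assoc ch k φ U.f).trans (congrArg (pullback.fst _ _ ≫ ·) φ.hhf)
    rwa [e] at this

lemma exists_split (k : Sel ch) (t : Task σ) :
    ∃ (Z : C) (v : Z ⟶ t.Y) (_ : t.R v) (z : (succF ch k).obj Z),
      (succF ch k).map v z = transEl ch k t.y := by
  classical
  obtain ⟨U, g, hA, -⟩ := exists_node {t} t.y
  have ht : t ∈ U.A := hA ▸ Finset.mem_singleton_self t
  refine ⟨_, ch.v t (k t), ch.v_mem t (k t),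
    fiberMk (p := nodeFunctor ch k) (U := U)
      (pullback.snd (Pi.lift U.g) (selMap ch k U.A) ≫ Pi.π (fun t : U.A => ch.V t.1 (k t.1)) ⟨t, ht⟩), ?_⟩
  rw [transEl_eq ch k t.y (U.hg ⟨t, ht⟩), fiber_map_fiberMk]
  refine congrArg fiberMk ?_
  have e := (pullback.condition (f := Pi.lift U.g) (g := selMap ch k U.A)) =≫ Pi.π _ ⟨t, ht⟩
  simp only [Category.assoc, Pi.lift_π, Pi.map_π] at e
  rw [Category.assoc]
  exact e.symm

/-- Every stage has an enlargement splitting all its coverings. -/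
lemma exists_next
    (hJ : ∀ (U : C) (R : Sieve U), R ∈ J U →
      ∃ (n : ℕ) (V : Fin n → C) (g : ∀ k, V k ⟶ U), (∀ k, R (g k)) ∧ Sieve.ofArrows V g ∈ J U)
    (σ : Stage J S) :
    ∃ (τ : Stage J S) (η : σ.F ⟶ τ.F), η.app X σ.x = τ.x ∧
      ∀ (Y : C) (y : σ.F.obj Y) (R : Sieve Y), R ∈ J Y →
        ∃ (Z : C) (v : Z ⟶ Y) (_ : R v) (z : τ.F.obj Z), τ.F.map v z = η.app Y y := by
  choose n V g hg hgJ using fun t : Task σ => hJ t.Y t.R t.mem
  let ch : Choices σ := { n := n, V := V, v := g, v_mem := hg, covering := hgJ }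
  obtain ⟨k, hk⟩ := exists_good ch
  exact ⟨succStage ch k hk, trans ch k, rfl, fun Y y R hR => exists_split ch k ⟨Y, y, R, hR⟩⟩

end Groth.SitesTopoi.Deligne
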